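import Mathlib

/-!
Numbers as rows of digits of a fixed width, with the operations on all digits at once.
-/

set_option autoImplicit false

namespace Cfsg.Lib.FiSeventyEight

/-- The number with given digits. -/
def enc (w m : ℕ) (f : ℕ → ℕ) : ℕ := ∑ j ∈ Finset.range m, f j * 2 ^ (w * j)

/-- A digit. -/
def slot (w x j : ℕ) : ℕ := x / 2 ^ (w * j) % 2 ^ w

/-- The number all digits of which are one. -/
def ones (w m : ℕ) : ℕ := (2 ^ (w * m) - 1) / (2 ^ w - 1)

theorem enc_succ (w m : ℕ) (f : ℕ → ℕ) : enc w (m + 1) f = f 0 + 2 ^ w * enc w m fun j => f (j + 1) := by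
  rw [enc, Finset.sum_range_succ', mul_zero, pow_zero, mul_one, add_comm, enc, Finset.mul_sum]
  congr 1
  exact Finset.sum_congr rfl fun j _ => by rw [mul_add, mul_one, pow_add]; ring

theorem enc_congr {w m : ℕ} {f g : ℕ → ℕ} (h : ∀ j < m, f j = g j) : enc w m f = enc w m g :=
  Finset.sum_congr rfl fun j hj => by rw [h j (Finset.mem_range.1 hj)]

theorem enc_lt {w : ℕ} : ∀ {m : ℕ} {f : ℕ → ℕ}, (∀ j < m, f j < 2 ^ w) → enc w m f < 2 ^ (w * m)
  | 0, f, _ => by simp [enc]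
  | m + 1, f, h => by
    have h1 := enc_lt (m := m) (f := fun j => f (j + 1)) fun j hj => h (j + 1) (Nat.succ_lt_succ hj)
    have h0 := h 0 (Nat.succ_pos m)
    rw [enc_succ, mul_add, mul_one, pow_add, mul_comm (2 ^ (w * m))]
    calc f 0 + 2 ^ w * enc w m (fun j => f (j + 1)) < 2 ^ w + 2 ^ w * enc w m (fun j => f (j + 1)) := by omega
      _ = 2 ^ w * (enc w m (fun j => f (j + 1)) + 1) := by ring
      _ ≤ 2 ^ w * 2 ^ (w * m) := Nat.mul_le_mul le_rfl h1

theorem slot_succ (w x j : ℕ) : slot w x (j + 1) = slot w (x / 2 ^ w) j := by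
  rw [slot, slot, Nat.div_div_eq_div_mul, ← pow_add, mul_add, mul_one, add_comm (w * j)]

theorem slot_enc {w : ℕ} : ∀ {m : ℕ} {f : ℕ → ℕ}, (∀ j < m, f j < 2 ^ w) → ∀ j < m, slot w (enc w m f) j = f j
  | 0, _, _, j, hj => absurd hj (Nat.not_lt_zero j)
  | m + 1, f, h, j, hj => by
    have h0 := h 0 (Nat.succ_pos m)
    rw [enc_succ]
    cases j with
    | zero => rw [slot, mul_zero, pow_zero, Nat.div_one, Nat.add_mul_mod_self_left, Nat.mod_eq_of_lt h0]
    | succ j =>
      rw [slot_succ, Nat.add_mul_div_left _ _ (Nat.two_pow_pos w), Nat.div_eq_of_lt h0, zero_add,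
        slot_enc (fun i hi => h (i + 1) (Nat.succ_lt_succ hi)) j (Nat.lt_of_succ_lt_succ hj)]

theorem slot_lt (w x j : ℕ) : slot w x j < 2 ^ w := Nat.mod_lt _ (Nat.two_pow_pos w)

theorem enc_slot {w : ℕ} : ∀ {m x : ℕ}, x < 2 ^ (w * m) → enc w m (slot w x) = x
  | 0, x, h => by
    simp only [mul_zero, pow_zero, Nat.lt_one_iff] at h
    simp [enc, h]
  | m + 1, x, h => by
    have h1 : x / 2 ^ w < 2 ^ (w * m) := by
      rw [Nat.div_lt_iff_lt_mul (Nat.two_pow_pos w), ← pow_add]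
      rwa [mul_add, mul_one] at h
    rw [enc_succ, enc_congr fun j _ => slot_succ w x j, enc_slot h1, slot, mul_zero, pow_zero, Nat.div_one]
    exact Nat.mod_add_div x _

theorem ones_eq {w : ℕ} (hw : 0 < w) (m : ℕ) : ones w m = enc w m fun _ => 1 := by
  have h2 : 2 ≤ 2 ^ w := Nat.le_self_pow (Nat.pos_iff_ne_zero.1 hw) 2
  have key : ∀ m, (2 ^ w - 1) * enc w m (fun _ => 1) + 1 = 2 ^ (w * m) := by
    intro m
    induction m with
    | zero => simp [enc]
    | succ m ih =>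
      obtain ⟨P, hP⟩ : ∃ P, 2 ^ w = P + 1 := ⟨2 ^ w - 1, by omega⟩
      rw [enc_succ, show (w * (m + 1)) = w + w * m by ring, pow_add, ← ih, hP, Nat.add_sub_cancel]
      ring
  rw [ones, ← key m, Nat.add_sub_cancel, Nat.mul_div_cancel_left _ (by omega)]

theorem mul_ones {w : ℕ} (hw : 0 < w) (m c : ℕ) : c * ones w m = enc w m fun _ => c := by
  rw [ones_eq hw, enc, enc, Finset.mul_sum]
  exact Finset.sum_congr rfl fun j _ => by ring

theorem enc_add (w m : ℕ) (f g : ℕ → ℕ) (c : ℕ) : enc w m f + c * enc w m g = enc w m fun j => f j + c * g j := by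
  rw [enc, enc, enc, Finset.mul_sum, ← Finset.sum_add_distrib]
  exact Finset.sum_congr rfl fun j _ => by ring

theorem testBit_enc {w m : ℕ} {f : ℕ → ℕ} (h : ∀ j < m, f j < 2 ^ w) {j r : ℕ} (hj : j < m) (hr : r < w) :
    (enc w m f).testBit (w * j + r) = (f j).testBit r := by
  conv_rhs => rw [← slot_enc h j hj, slot, Nat.testBit_mod_two_pow, Nat.testBit_div_two_pow]
  rw [decide_eq_true hr, Bool.true_and, add_comm]

/-- Bit fields of all digits at once. -/
theorem land_enc {w m s l : ℕ} {f : ℕ → ℕ} (h : ∀ j < m, f j < 2 ^ w) (hsl : s + l ≤ w) (hw : 0 < w) :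
    Nat.land (enc w m f >>> s) ((2 ^ l - 1) * ones w m) = enc w m fun j => f j / 2 ^ s % 2 ^ l := by
  rw [mul_ones hw]
  have hl : ∀ j < m, (fun _ : ℕ => 2 ^ l - 1) j < 2 ^ w := fun _ _ => by
    have h1 : 2 ^ l ≤ 2 ^ w := Nat.pow_le_pow_right (by norm_num) (by omega)
    have h2 := Nat.two_pow_pos l
    show 2 ^ l - 1 < 2 ^ w
    omega
  have hg : ∀ j < m, (fun j => f j / 2 ^ s % 2 ^ l) j < 2 ^ w := fun j _ =>
    lt_of_lt_of_le (Nat.mod_lt _ (Nat.two_pow_pos l)) (Nat.pow_le_pow_right (by norm_num) (by omega))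
  refine Nat.eq_of_testBit_eq fun t => ?_
  show ((enc w m f >>> s) &&& enc w m (fun _ => 2 ^ l - 1)).testBit t = _
  rw [Nat.testBit_and, Nat.testBit_shiftRight]
  rcases lt_or_ge t (w * m) with ht | ht
  · obtain ⟨j, r, hr, rfl⟩ : ∃ j r, r < w ∧ t = w * j + r := ⟨t / w, t % w, Nat.mod_lt _ hw, (Nat.div_add_mod t w).symm⟩
    have hj : j < m := Nat.lt_of_mul_lt_mul_left (a := w) (by omega)
    rw [testBit_enc hl hj hr, testBit_enc hg hj hr, Nat.testBit_mod_two_pow, Nat.testBit_div_two_pow,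
      Nat.testBit_two_pow_sub_one]
    by_cases hrl : r < l
    · rw [decide_eq_true hrl, Bool.and_true, Bool.true_and, show s + (w * j + r) = w * j + (s + r) by omega,
        testBit_enc h hj (show s + r < w by omega), add_comm]
    · rw [decide_eq_false hrl, Bool.and_false, Bool.false_and]
  · rw [Nat.testBit_lt_two_pow ((enc_lt hl).trans_le (Nat.pow_le_pow_right (by norm_num) ht)),
      Nat.testBit_lt_two_pow ((enc_lt hg).trans_le (Nat.pow_le_pow_right (by norm_num) ht)), Bool.and_false]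

/-- One folding step: the high part of every digit times a constant added to the low part. -/
def step (s c m x : ℕ) : ℕ :=
  Nat.land x ((2 ^ s - 1) * ones 16 m) + c * Nat.land (x >>> s) ((2 ^ s - 1) * ones 16 m)

theorem step_enc {s : ℕ} (hs : s + s ≤ 16) (c : ℕ) {m : ℕ} {f : ℕ → ℕ} (h : ∀ j < m, f j < 2 ^ 16) :
    step s c m (enc 16 m f) = enc 16 m fun j => f j % 2 ^ s + c * (f j / 2 ^ s % 2 ^ s) := by
  have h0 := land_enc (s := 0) (l := s) h (by omega) (by norm_num)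
  rw [Nat.shiftRight_zero] at h0
  rw [step, h0, land_enc h hs (by norm_num), enc_add]
  simp only [pow_zero, Nat.div_one]

/-- Reduction of all digits modulo thirteen. -/
def red (m x : ℕ) : ℕ :=
  let y := step 4 3 m (step 4 3 m (step 4 3 m (step 8 9 m (step 8 9 m (step 8 9 m x)))))
  y - 13 * Nat.land ((y + 3 * ones 16 m) >>> 4) ((2 ^ 1 - 1) * ones 16 m)

/-- The scalar steps. -/
def fold8 (v : ℕ) : ℕ := v % 256 + 9 * (v / 256 % 256)

/-- The scalar steps. -/
def fold4 (v : ℕ) : ℕ := v % 16 + 3 * (v / 16 % 16)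

theorem step8 {m : ℕ} {f : ℕ → ℕ} (h : ∀ j < m, f j < 2 ^ 16) :
    step 8 9 m (enc 16 m f) = enc 16 m fun j => fold8 (f j) := step_enc (by norm_num) 9 h

theorem step4 {m : ℕ} {f : ℕ → ℕ} (h : ∀ j < m, f j < 2 ^ 16) :
    step 4 3 m (enc 16 m f) = enc 16 m fun j => fold4 (f j) := step_enc (by norm_num) 3 h

theorem fold8_spec {v : ℕ} (h : v < 65536) :
    fold8 v % 13 = v % 13 ∧ fold8 v = v % 256 + 9 * (v / 256) := by
  have e : fold8 v = v % 256 + 9 * (v / 256) := by rw [fold8, Nat.mod_eq_of_lt (show v / 256 < 256 by omega)]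
  refine ⟨?_, e⟩
  have hv : v = fold8 v + 13 * (19 * (v / 256)) := by omega
  conv_rhs => rw [hv, Nat.add_mul_mod_self_left]

theorem fold4_spec {v : ℕ} (h : v < 256) :
    fold4 v % 13 = v % 13 ∧ fold4 v = v % 16 + 3 * (v / 16) := by
  have e : fold4 v = v % 16 + 3 * (v / 16) := by rw [fold4, Nat.mod_eq_of_lt (show v / 16 < 16 by omega)]
  refine ⟨?_, e⟩
  have hv : v = fold4 v + 13 * (v / 16) := by omega
  conv_rhs => rw [hv, Nat.add_mul_mod_self_left]

theorem sub_thirteen {u : ℕ} (h : u ≤ 15) : u % 13 + 13 * ((u + 3) / 16 % 2) = u := by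
  interval_cases u <;> rfl

theorem bound8 {v N B : ℕ} (h : v ≤ N) (hN : N < 65536) (hB : 255 + 9 * (N / 256) ≤ B) : fold8 v ≤ B := by
  rw [(fold8_spec (lt_of_le_of_lt h hN)).2]
  have h1 : v % 256 ≤ 255 := Nat.le_of_lt_succ (Nat.mod_lt _ (by norm_num))
  have h2 : v / 256 ≤ N / 256 := Nat.div_le_div_right h
  omega

theorem bound4 {v N B : ℕ} (h : v ≤ N) (hN : N < 256) (hB : 15 + 3 * (N / 16) ≤ B) : fold4 v ≤ B := by
  rw [(fold4_spec (lt_of_le_of_lt h hN)).2]
  have h1 : v % 16 ≤ 15 := Nat.le_of_lt_succ (Nat.mod_lt _ (by norm_num))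
  have h2 : v / 16 ≤ N / 16 := Nat.div_le_div_right h
  omega

theorem last8 {v : ℕ} (h : v ≤ 336) : fold8 v ≤ 255 := by
  rw [(fold8_spec (lt_of_le_of_lt h (by norm_num))).2]
  omega

theorem last4 {v : ℕ} (h : v ≤ 24) : fold4 v ≤ 15 := by
  rw [(fold4_spec (lt_of_le_of_lt h (by norm_num))).2]
  omega

theorem fold_final {v : ℕ} (h : v < 65536) :
    fold8 v < 65536 ∧ fold8 (fold8 v) < 65536 ∧ fold8 (fold8 (fold8 v)) < 65536 ∧
      fold4 (fold8 (fold8 (fold8 v))) < 65536 ∧ fold4 (fold4 (fold8 (fold8 (fold8 v)))) < 65536 ∧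
      fold4 (fold4 (fold4 (fold8 (fold8 (fold8 v))))) ≤ 15 ∧
      fold4 (fold4 (fold4 (fold8 (fold8 (fold8 v))))) % 13 = v % 13 := by
  have b1 := bound8 (B := 2550) (Nat.le_of_lt_succ h) (by norm_num) (by norm_num)
  have b2 := bound8 (B := 336) b1 (by norm_num) (by norm_num)
  have b3 := last8 b2
  have b4 := bound4 (B := 60) b3 (by norm_num) (by norm_num)
  have b5 := bound4 (B := 24) b4 (by norm_num) (by norm_num)
  have b6 := last4 b5
  refine ⟨lt_of_le_of_lt b1 (by norm_num), lt_of_le_of_lt b2 (by norm_num), lt_of_le_of_lt b3 (by norm_num),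
    lt_of_le_of_lt b4 (by norm_num), lt_of_le_of_lt b5 (by norm_num), b6, ?_⟩
  rw [(fold4_spec (lt_of_le_of_lt b5 (by norm_num))).1, (fold4_spec (lt_of_le_of_lt b4 (by norm_num))).1,
    (fold4_spec (lt_of_le_of_lt b3 (by norm_num))).1, (fold8_spec (lt_of_le_of_lt b2 (by norm_num))).1,
    (fold8_spec (lt_of_le_of_lt b1 (by norm_num))).1, (fold8_spec h).1]

theorem red_enc {m : ℕ} {f : ℕ → ℕ} (h : ∀ j < m, f j < 2 ^ 16) : red m (enc 16 m f) = enc 16 m fun j => f j % 13 := by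
  have F := fun j (hj : j < m) => fold_final (show f j < 65536 from h j hj)
  have e : step 4 3 m (step 4 3 m (step 4 3 m (step 8 9 m (step 8 9 m (step 8 9 m (enc 16 m f)))))) =
      enc 16 m fun j => fold4 (fold4 (fold4 (fold8 (fold8 (fold8 (f j)))))) := by
    rw [step8 h, step8 fun j hj => (F j hj).1, step8 fun j hj => (F j hj).2.1, step4 fun j hj => (F j hj).2.2.1,
      step4 fun j hj => (F j hj).2.2.2.1, step4 fun j hj => (F j hj).2.2.2.2.1]
  simp only [red]
  rw [e]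
  set u := fun j => fold4 (fold4 (fold4 (fold8 (fold8 (fold8 (f j)))))) with hu
  have hle : ∀ j < m, u j ≤ 15 := fun j hj => (F j hj).2.2.2.2.2.1
  have hlt : ∀ j < m, u j + 3 * 1 < 2 ^ 16 := fun j hj => by have := hle j hj; norm_num; omega
  rw [ones_eq (by norm_num) m, enc_add, ← ones_eq (by norm_num) m, land_enc hlt (by norm_num) (by norm_num)]
  have split : enc 16 m u = enc 16 m (fun j => f j % 13) + 13 * enc 16 m (fun j => (u j + 3 * 1) / 2 ^ 4 % 2 ^ 1) := by
    rw [enc_add]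
    refine enc_congr fun j hj => ?_
    have h1 : u j % 13 = f j % 13 := (F j hj).2.2.2.2.2.2
    have h2 := sub_thirteen (hle j hj)
    rw [← h1, show (u j + 3 * 1) / 2 ^ 4 % 2 ^ 1 = (u j + 3) / 16 % 2 from rfl]
    omega
  rw [split, Nat.add_sub_cancel]

end Cfsg.Lib.FiSeventyEight
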