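import Cfsg.Agent.FiSeventyEight.Relations
import Cfsg.Agent.FiPres.Simple

/-!
The representation is faithful.
-/

set_option autoImplicit false
set_option maxRecDepth 20000
set_option Elab.async false

namespace Cfsg.Lib.FiSeventyEight

open Cfsg.Lib.CosetCert
open Cfsg.Lib.FiPres (allWords Good toGrp toGrp_im wval_cons wval_nil pairWord extraWords)

theorem okay_gens : ∀ M ∈ gensP, Okay 78 M := fun M hM => by
  have h := gens_okay
  simp only [Bool.and_eq_true] at h
  exact okB_sound (by norm_num) (List.all_eq_true.1 h.1.2 M hM)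

theorem one_of {w : List ℕ} (h : oneWord w = true) :
    (w.map fun l => toP 78 (gensP.getD l (oneP 78))).prod = 1 := by
  rw [← (wordP_spec (by norm_num) (by norm_num) okay_gens w).2, beq_iff_eq.1 h]
  exact (one_okay 78).2

theorem pair_one {x y : ℕ} (hx : x < 9) (hy : y < 9) : oneWord (pairWord x y) = true := by
  rcases lt_or_ge x 5 with h | h
  · exact List.all_eq_true.1 (List.all_eq_true.1 pairs_low x (List.mem_range.2 h)) y (List.mem_range.2 hy)
  · have e := List.all_eq_true.1 (List.all_eq_true.1 pairs_high (x - 5) (List.mem_range.2 (by omega))) y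
      (List.mem_range.2 hy)
    rwa [show x - 5 + 5 = x by omega] at e

theorem pair_self : ∀ x : Fin 9, pairWord x x = [x.val, x.val] := by decide +kernel

theorem gen_sq (l : ℕ) : toP 78 (gensP.getD l (oneP 78)) * toP 78 (gensP.getD l (oneP 78)) = 1 := by
  rcases lt_or_ge l 9 with h | h
  · have e := one_of (pair_one h h)
    rw [pair_self ⟨l, h⟩] at e
    simpa using e
  · have hl : gensP.length = 9 := by
      have h := gens_okay
      simp only [Bool.and_eq_true, beq_iff_eq] at h
      exact h.1.1
    rw [List.getD_eq_default _ _ (by omega), (one_okay 78).2, one_mul]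

/-- The invertible matrix of a letter. -/
def unitP (l : ℕ) : GL (Fin 78) (ZMod 13) := ⟨_, _, gen_sq l, gen_sq l⟩

theorem unit_val : ∀ w : List ℕ, ((wval unitP w : GL (Fin 78) (ZMod 13)) : Matrix (Fin 78) (Fin 78) (ZMod 13)) =
    (w.map fun l => toP 78 (gensP.getD l (oneP 78))).prod
  | [] => rfl
  | l :: w => by rw [wval_cons, Units.val_mul, unit_val w, List.map_cons, List.prod_cons]; rfl

theorem good_unit : Good unitP := by
  intro w hw
  refine Units.ext ((unit_val w).trans (one_of ?_))
  rcases List.mem_append.1 hw with hw | hw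
  · obtain ⟨x, hx, hw⟩ := List.mem_flatMap.1 hw
    obtain ⟨y, hy, rfl⟩ := List.mem_map.1 hw
    exact pair_one (List.mem_range.1 hx) (List.mem_range.1 hy)
  · exact List.all_eq_true.1 extra_one w hw

theorem first_ne : unitP 0 ≠ 1 := by
  intro h
  have e : toP 78 gen0 = 1 := congrArg Units.val h
  have g := gens_okay
  simp only [Bool.and_eq_true, bne_iff_ne] at g
  obtain ⟨a, ha, hA⟩ := okay_gens gen0 (by simp [gensP])
  obtain ⟨b, hb, hB⟩ := (one_okay 78).1
  refine g.2 ?_
  rw [hA, hB]
  refine encMat_congr fun i hi j hj => ?_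
  have hv := congrFun (congrFun (e.trans (one_okay 78).2.symm) ⟨i, hi⟩) ⟨j, hj⟩
  simp only [toP, hA, hB, entry_encMat (fun i j => (ha i j).trans (by norm_num)) hi hj,
    entry_encMat (fun i j => (hb i j).trans (by norm_num)) hi hj] at hv
  have hm := congrArg ZMod.val hv
  rwa [ZMod.val_natCast_of_lt (ha i j), ZMod.val_natCast_of_lt (hb i j)] at hm

theorem exists_faithful : ∃ f : Cfsg.Spor.Fi22 →* GL (Fin 78) (ZMod 13), Function.Injective f := by
  refine ⟨toGrp good_unit, ?_⟩
  haveI := Cfsg.Lib.FiPres.simple_fi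
  rcases Subgroup.Normal.eq_bot_or_eq_top (MonoidHom.normal_ker (toGrp good_unit)) with h | h
  · exact (MonoidHom.ker_eq_bot_iff _).1 h
  · exfalso
    refine first_ne ?_
    rw [← toGrp_im good_unit (show 0 < 9 by norm_num)]
    exact MonoidHom.mem_ker.1 (h ▸ Subgroup.mem_top _)

end Cfsg.Lib.FiSeventyEight
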