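import Cfsg.Agent.FiSeventyEight.Digits

/-!
A square matrix modulo thirteen as a single number, with the product computed on whole rows.
-/

set_option autoImplicit false

namespace Cfsg.Lib.FiSeventyEight

/-- The number with given entries. -/
def encMat (n : ℕ) (a : ℕ → ℕ → ℕ) : ℕ := enc (16 * n) n fun i => enc 16 n (a i)

/-- The entries. -/
def entry (n N i j : ℕ) : ℕ := slot 16 (slot (16 * n) N i) j

/-- The matrix of a number. -/
def toP (n N : ℕ) : Matrix (Fin n) (Fin n) (ZMod 13) := fun i j => ((entry n N i j : ℕ) : ZMod 13)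

/-- The number is that of a reduced matrix. -/
def Okay (n N : ℕ) : Prop := ∃ a : ℕ → ℕ → ℕ, (∀ i j, a i j < 13) ∧ N = encMat n a

theorem encMat_congr {n : ℕ} {a b : ℕ → ℕ → ℕ} (h : ∀ i < n, ∀ j < n, a i j = b i j) : encMat n a = encMat n b :=
  enc_congr fun i hi => enc_congr fun j hj => h i hi j hj

theorem row_lt {n : ℕ} {a : ℕ → ℕ → ℕ} (h : ∀ i j, a i j < 2 ^ 16) (i : ℕ) : enc 16 n (a i) < 2 ^ (16 * n) :=
  enc_lt fun j _ => h i j

theorem entry_encMat {n : ℕ} {a : ℕ → ℕ → ℕ} (h : ∀ i j, a i j < 2 ^ 16) {i j : ℕ} (hi : i < n) (hj : j < n) :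
    entry n (encMat n a) i j = a i j := by
  rw [entry, encMat, slot_enc (fun i _ => row_lt h i) i hi, slot_enc (fun j _ => h i j) j hj]

theorem encMat_flat {n : ℕ} (hn : 0 < n) (a : ℕ → ℕ → ℕ) :
    encMat n a = enc 16 (n * n) fun t => a (t / n) (t % n) := by
  have key : ∀ p, enc (16 * n) p (fun i => enc 16 n (a i)) = enc 16 (p * n) fun t => a (t / n) (t % n) := by
    intro p
    induction p with
    | zero => simp [enc]
    | succ p ih =>
      unfold enc at ih ⊢
      rw [Finset.sum_range_succ, ih, show (p + 1) * n = p * n + n by ring, Finset.sum_range_add, Finset.sum_mul]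
      congr 1
      refine Finset.sum_congr rfl fun j hj => ?_
      rw [Finset.mem_range] at hj
      dsimp only
      rw [show p * n + j = j + p * n by omega, Nat.add_mul_div_right _ _ hn, Nat.div_eq_of_lt hj, zero_add,
        Nat.add_mul_mod_self_right, Nat.mod_eq_of_lt hj, mul_assoc, ← pow_add]
      congr 2
      ring
  exact key n

/-- The product before reduction. -/
def raw (n A B : ℕ) : ℕ := ((List.range n).map fun k =>
  Nat.land (A >>> (16 * k)) ((2 ^ 16 - 1) * ones (16 * n) n) * ((B >>> (16 * n * k)) % 2 ^ (16 * n))).sum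

/-- The product. -/
def mulP (n A B : ℕ) : ℕ := red (n * n) (raw n A B)

/-- The identity. -/
def oneP (n : ℕ) : ℕ := ones (16 * n + 16) n

theorem list_sum (g : ℕ → ℕ) : ∀ n, ((List.range n).map g).sum = ∑ k ∈ Finset.range n, g k
  | 0 => rfl
  | n + 1 => by rw [List.range_succ, List.map_append, List.sum_append, list_sum g n, Finset.sum_range_succ]; simp

theorem raw_eq {n : ℕ} {a b : ℕ → ℕ → ℕ} (ha : ∀ i j, a i j < 2 ^ 16) (hb : ∀ i j, b i j < 2 ^ 16) :
    raw n (encMat n a) (encMat n b) = encMat n fun i j => ∑ k ∈ Finset.range n, a i k * b k j := by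
  have key : ∀ k ∈ Finset.range n, Nat.land (encMat n a >>> (16 * k)) ((2 ^ 16 - 1) * ones (16 * n) n) *
      ((encMat n b >>> (16 * n * k)) % 2 ^ (16 * n)) = enc (16 * n) n (fun i => a i k) * enc 16 n (b k) := by
    intro k hk
    rw [Finset.mem_range] at hk
    congr 1
    · rw [encMat, land_enc (fun i _ => row_lt ha i) (show 16 * k + 16 ≤ 16 * n by omega) (by omega)]
      exact enc_congr fun i _ => slot_enc (fun j _ => ha i j) k hk
    · rw [Nat.shiftRight_eq_div_pow]
      exact slot_enc (fun i _ => row_lt hb i) k hk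
  rw [raw, list_sum, Finset.sum_congr rfl key]
  simp only [encMat, enc, Finset.sum_mul, Finset.mul_sum]
  rw [Finset.sum_comm]
  conv_rhs => rw [Finset.sum_comm]
  refine Finset.sum_congr rfl fun i _ => ?_
  rw [Finset.sum_comm]
  refine Finset.sum_congr rfl fun j _ => ?_
  exact Finset.sum_congr rfl fun k _ => by ring

theorem mul_encMat {n : ℕ} (hn : 0 < n) (h : n ≤ 300) {a b : ℕ → ℕ → ℕ} (ha : ∀ i j, a i j < 13)
    (hb : ∀ i j, b i j < 13) :
    mulP n (encMat n a) (encMat n b) = encMat n fun i j => (∑ k ∈ Finset.range n, a i k * b k j) % 13 := by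
  rw [mulP, raw_eq (fun i j => (ha i j).trans (by norm_num)) (fun i j => (hb i j).trans (by norm_num)),
    encMat_flat hn, red_enc, encMat_flat hn]
  intro t _
  have := Finset.sum_le_card_nsmul (Finset.range n) (fun k => a (t / n) k * b k (t % n)) (12 * 12) fun k _ =>
    Nat.mul_le_mul (Nat.le_of_lt_succ (ha _ _)) (Nat.le_of_lt_succ (hb _ _))
  simp only [Finset.card_range, smul_eq_mul] at this
  show ∑ k ∈ Finset.range n, a (t / n) k * b k (t % n) < 2 ^ 16
  omega

theorem mul_okay {n : ℕ} (hn : 0 < n) (h : n ≤ 300) {A B : ℕ} (hA : Okay n A) (hB : Okay n B) :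
    Okay n (mulP n A B) ∧ toP n (mulP n A B) = toP n A * toP n B := by
  obtain ⟨a, ha, rfl⟩ := hA
  obtain ⟨b, hb, rfl⟩ := hB
  have ha' : ∀ i j, a i j < 2 ^ 16 := fun i j => (ha i j).trans (by norm_num)
  have hb' : ∀ i j, b i j < 2 ^ 16 := fun i j => (hb i j).trans (by norm_num)
  rw [mul_encMat hn h ha hb]
  refine ⟨⟨_, fun i j => Nat.mod_lt _ (by norm_num), rfl⟩, ?_⟩
  ext i j
  rw [Matrix.mul_apply]
  show ((entry n (encMat n _) i j : ℕ) : ZMod 13) = _
  rw [entry_encMat (fun i j => lt_trans (Nat.mod_lt _ (by norm_num)) (by norm_num)) i.isLt j.isLt,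
    ZMod.natCast_mod, Nat.cast_sum, Finset.sum_range]
  refine Finset.sum_congr rfl fun k _ => ?_
  show ((a i k * b k j : ℕ) : ZMod 13) = ((entry n (encMat n a) i k : ℕ) : ZMod 13) * ((entry n (encMat n b) k j : ℕ) : ZMod 13)
  rw [entry_encMat ha' i.isLt k.isLt, entry_encMat hb' k.isLt j.isLt, Nat.cast_mul]

theorem one_okay (n : ℕ) : Okay n (oneP n) ∧ toP n (oneP n) = 1 := by
  have e : oneP n = encMat n fun i j => if i = j then 1 else 0 := by
    rw [oneP, ones_eq (by omega)]
    simp only [encMat, enc, ite_mul, zero_mul, one_mul]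
    refine Finset.sum_congr rfl fun i hi => ?_
    rw [Finset.sum_ite_eq, if_pos hi, ← pow_add]
    congr 1
    ring
  refine ⟨⟨_, fun i j => by split_ifs <;> norm_num, e⟩, ?_⟩
  ext i j
  show ((entry n (oneP n) i j : ℕ) : ZMod 13) = _
  rw [e, entry_encMat (fun i j => by split_ifs <;> norm_num) i.isLt j.isLt, Matrix.one_apply]
  rcases eq_or_ne i j with rfl | h
  · simp
  · rw [if_neg h, if_neg fun e => h (Fin.ext e), Nat.cast_zero]

/-- A test of reducedness. -/
def okB (n N : ℕ) : Bool := decide (N < 2 ^ (16 * (n * n))) && (red (n * n) N == N)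

theorem okB_sound {n N : ℕ} (hn : 0 < n) (h : okB n N = true) : Okay n N := by
  rw [okB, Bool.and_eq_true, decide_eq_true_eq, beq_iff_eq] at h
  obtain ⟨h1, h2⟩ := h
  refine ⟨fun i j => slot 16 N (n * i + j) % 13, fun i j => Nat.mod_lt _ (by norm_num), ?_⟩
  rw [encMat_flat hn]
  conv_lhs => rw [← h2, ← enc_slot h1, red_enc fun t _ => slot_lt 16 N t]
  exact enc_congr fun t _ => by rw [Nat.div_add_mod]

/-- The product along a word. -/
def wordP (n : ℕ) (Ms : List ℕ) : List ℕ → ℕ
  | [] => oneP n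
  | l :: w => mulP n (Ms.getD l (oneP n)) (wordP n Ms w)

theorem wordP_spec {n : ℕ} (hn : 0 < n) (h : n ≤ 300) {Ms : List ℕ} (hM : ∀ M ∈ Ms, Okay n M) :
    ∀ w : List ℕ, Okay n (wordP n Ms w) ∧
      toP n (wordP n Ms w) = (w.map fun l => toP n (Ms.getD l (oneP n))).prod
  | [] => ⟨(one_okay n).1, by rw [wordP, (one_okay n).2, List.map_nil, List.prod_nil]⟩
  | l :: w => by
    obtain ⟨h1, h2⟩ := wordP_spec hn h hM w
    have hl : Okay n (Ms.getD l (oneP n)) := by
      rcases lt_or_ge l Ms.length with h' | h'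
      · rw [List.getD_eq_getElem _ _ h']; exact hM _ (List.getElem_mem h')
      · rw [List.getD_eq_default _ _ h']; exact (one_okay n).1
    obtain ⟨h3, h4⟩ := mul_okay hn h hl h1
    exact ⟨h3, by rw [wordP, h4, h2, List.map_cons, List.prod_cons]⟩

/-- The number with the given rows. -/
def joinW (w : ℕ) : List ℕ → ℕ
  | [] => 0
  | a :: l => a + 2 ^ w * joinW w l

end Cfsg.Lib.FiSeventyEight
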