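import Cfsg.Agent.FiSeventyEight.Gens
import Cfsg.Agent.FiPres.Relators

/-!
The nine matrices satisfy the relations of the presentation.
-/

set_option autoImplicit false
set_option Elab.async false

namespace Cfsg.Lib.FiSeventyEight

open Cfsg.Lib.FiPres (pairWord extraWords)

/-- A word has value one. -/
def oneWord (w : List ℕ) : Bool := wordP 78 gensP w == oneP 78

theorem gens_okay : (gensP.length == 9 && gensP.all (okB 78) && gen0 != oneP 78) = true := by decide +kernel

theorem pairs_low : ((List.range 5).all fun x => (List.range 9).all fun y => oneWord (pairWord x y)) = true := by
  decide +kernel

theorem pairs_high : ((List.range 4).all fun x => (List.range 9).all fun y => oneWord (pairWord (x + 5) y)) = true := by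
  decide +kernel

theorem extra_one : extraWords.all oneWord = true := by decide +kernel

end Cfsg.Lib.FiSeventyEight
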